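import Cfsg.Agent.H926.WG2.Red
import Cfsg.Agent.H533.Wf.Aut
import Cfsg.Agent.Lib.ComponentSolvable
import Cfsg.Agent.TwoFusion.SLTwoFacts

/-!
# The row `G₂(q)`, `3 ∤ q`, `q ≥ 4`, of S3826 (`p = 3`)

* `qs_range` : images of quasi-simple groups with central kernel are `QS`;
* `arow_of_red` : `Red p L` for a `QS` subgroup `L ≠ ⊤` gives `ARow p`;
* `arow_G2`.
-/

set_option autoImplicit false

namespace Cfsg.Agent.H926.WG2.Row

open Subgroup Cfsg Cfsg.Lie Cfsg.Agent.H533.Wf Cfsg.Agent.H897.T5Sub Cfsg.Agent.Lib.ComponentSolvable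
open Matrix (SpecialLinearGroup)

theorem qs_range {G K : Type*} [Group G] [Group K] (hq : IsQuasisimple G) (f : G →* K)
    (hk : ∀ x, f x = 1 → x ∈ center G) : QS f.range := by
  have hperf : ⁅(⊤ : Subgroup G), (⊤ : Subgroup G)⁆ = ⊤ := Group.isPerfect_def.1 hq.1
  refine ⟨?_, ?_, ?_⟩
  · rw [MonoidHom.range_eq_map, ← Subgroup.map_commutator, hperf]
  · intro h
    apply quasisimple_center_ne_top hq
    rw [eq_top_iff]
    intro x _
    apply hk
    have h1 : f x ∈ f.range := ⟨x, rfl⟩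
    rwa [h, Subgroup.mem_bot] at h1
  · intro N hN hn
    have hnorm : (N.comap f).Normal := by
      constructor
      intro x hx g
      rw [Subgroup.mem_comap, map_mul, map_mul, map_inv]
      exact (Subgroup.mem_normalizer_iff.1 (hn ⟨g, rfl⟩) (f x)).1 hx
    rcases quasisimple_normal_cases hq hnorm with h1 | h1
    · left
      refine le_antisymm hN ?_
      rintro _ ⟨x, rfl⟩
      have h2 : x ∈ N.comap f := by rw [h1]; exact Subgroup.mem_top x
      exact h2
    · right
      intro y hy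
      obtain ⟨x, rfl⟩ := hN hy
      rw [Subgroup.mem_centralizer_iff]
      rintro _ ⟨z, rfl⟩
      have h2 : x ∈ center G := h1 hy
      rw [← map_mul, ← map_mul, Subgroup.mem_center_iff.1 h2 z]

theorem arow_of_red {p : ℕ} [Fact p.Prime] {K : Type*} [Group K] [Finite K] {L : Subgroup K} (hL : QS L)
    (hLt : L ≠ ⊤) (h : Red p L) : ARow p K := by
  intro Γ C D hc
  obtain ⟨c, hcC⟩ := hc.neC
  obtain ⟨d, hdD⟩ := hc.neD
  obtain ⟨g, hg, h1, y, hy, h2⟩ := h c (hc.ordC c hcC)
  obtain ⟨g', hg', h1', y', hy', h2'⟩ := h d (hc.ordD d hdD)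
  exact hc.false_of_moves hL hLt (hc.conjC g (hc.inn hg) c hcC) (hc.conjD g' (hc.inn hg') d hdD) h1 h1'
    ⟨y, hy, h2⟩ ⟨y', hy', h2'⟩

section G2

open Cfsg.Agent.ChevalleyStructure Cfsg.Agent.ChevalleyStructure.Elts Cfsg.Agent.Nodes.RGDChev
open Cfsg.Agent.KFacts.RgdChevCoord Cfsg.Agent.H897.T5Untw Cfsg.Agent.H926.WG2.Frame Cfsg.Agent.H926.WG2.Red
open Cfsg.Agent.ChevalleyStructure.SL2Hom (up lo mem_closure_SL2)
open Cfsg.Agent.OddHalf.LongSL.Chev (phi phi_up phi_lo)

theorem isType_G2 : IsType chevG2 2 CoxeterMatrix.G₂ := by simp [IsType, typeList]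

variable (hp : IsType chevG2 2 CoxeterMatrix.G₂) {F : Type} [Field F]

theorem up_eq (t : F) : ph hp F 0 (up t) = xc hp (vec chevG2 2 7) t := by
  apply Subtype.ext
  rw [ph, phi_up]
  exact (coe_xc (K := F) hp (r := 7) (by decide) t).symm

theorem lo_eq (t : F) : ph hp F 0 (lo t) = xc hp (vec chevG2 2 4) t := by
  apply Subtype.ext
  rw [ph, phi_lo]
  exact (coe_xc (K := F) hp (r := 4) (by decide) t).symm

/-- the short root `SL₂` is proper -/
theorem range_ne_top (hF : Subgroup.center ↥(chevG2.group F) = ⊥) : (ph hp F 0).range ≠ ⊤ := by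
  intro htop
  have h11 : (11 : ℕ) < chevG2.nroots := by decide
  have hcom : ∀ y ∈ (ph hp F 0).range, xc hp (vec chevG2 2 11) 1 * y = y * xc hp (vec chevG2 2 11) 1 := by
    refine Cfsg.Agent.OddHalf.LongSL.commute_range _ (fun s => ?_) (fun s => ?_)
    · rw [up_eq]
      exact (comm_xc hp (r := 7) (s := 11) (by decide) h11 (CommG2.commAt_G2 F _ _ (by decide) (by decide) (by decide)
        (by decide +kernel)) (by decide +kernel) s 1).symm
    · rw [lo_eq]
      exact (comm_xc hp (r := 4) (s := 11) (by decide) h11 (CommG2.commAt_G2 F _ _ (by decide) (by decide) (by decide)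
        (by decide +kernel)) (by decide +kernel) s 1).symm
  have h1 : xc hp (vec chevG2 2 11) (1 : F) ∈ Subgroup.center ↥(chevG2.group F) := by
    rw [Subgroup.mem_center_iff]
    intro g
    exact (hcom g (by rw [htop]; exact Subgroup.mem_top g)).symm
  rw [hF, Subgroup.mem_bot] at h1
  have h2 := congrArg (fun g : ↥(chevG2.group F) => (g : GL chevG2.Idx F)) h1
  simp only [coe_xc hp h11] at h2
  have h3 := (xG_eq_one_iff hp.inList h11 (1 : F)).1 h2
  exact one_ne_zero h3

/-- **The row `G₂(q)`.** -/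
theorem arow_G2 [Fintype F] (h4 : 4 ≤ Fintype.card F) (h3 : ¬ 3 ∣ Fintype.card F) : ARow 3 ↥(chevG2.group F) := by
  have hp : IsType chevG2 2 CoxeterMatrix.G₂ := isType_G2
  have : Fact (Nat.Prime 3) := ⟨Nat.prime_three⟩
  have hs := S1055.result (F := F) (BpExc.RowsUntw.exists_ne (by omega))
  have hZ : Subgroup.center ↥(chevG2.group F) = ⊥ := by
    have := hs.1
    refine KFacts.RgdLieCharP.center_eq_bot ?_
    by_contra hcon
    push Not at hcon
    exact hs.2 ⟨⟨hcon⟩⟩
  have hq : IsQuasisimple (SpecialLinearGroup (Fin 2) F) :=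
    ⟨Group.isPerfect_def.2 (TwoFusion.SLTwoFacts.commutator_eq_top (by omega)),
      TwoFusion.SLTwoFacts.isSimpleGroup_psl (by omega)⟩
  exact arow_of_red (qs_range hq _ fun x hx => phi_ker' hp 0 x hx) (range_ne_top hp hZ) (red_G2 hp h4 h3)

end G2

end Cfsg.Agent.H926.WG2.Row
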