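import Cfsg.Agent.H897.T5Frame
import Cfsg.Agent.ChevalleyStructure.CommG2
import Cfsg.Agent.H926.WG2.Tors

/-!
# The frame of `G₂` for `q ≡ - 1` (S3826)

`- 1` is the product of the reflections in the short root `α₀` and the orthogonal long root `3 α₀ + 2 α₁`.
-/

set_option autoImplicit false
set_option linter.unusedSectionVars false

namespace Cfsg.Agent.H926.WG2.Frame

open CoxeterSystem Cfsg Cfsg.Lie Cfsg.Lie.ChevalleyDatum
open Cfsg.Agent.ChevalleyStructure Cfsg.Agent.ChevalleyStructure.Elts Cfsg.Agent.ChevalleyStructure.CoxeterGeom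
  Cfsg.Agent.ChevalleyStructure.CoxeterGeomTypes Cfsg.Agent.ChevalleyStructure.NPerm
open Cfsg.Agent.Tits.Roots Cfsg.Agent.Tits.Core Cfsg.Agent.Nodes Cfsg.Agent.Nodes.Reps Cfsg.Agent.Nodes.BNOf
  Cfsg.Agent.Nodes.RGDChev Cfsg.Agent.Nodes.Bruhat Cfsg.Agent.Nodes.SubComb Cfsg.Agent.Nodes.Coroot
open Cfsg.Agent.KFacts.RgdField Cfsg.Agent.KFacts.RgdChevCoord Cfsg.Agent.BpExc.TorCent Cfsg.Agent.BpExc.TorChev
open Cfsg.Agent.GpExc.Field Cfsg.Agent.BpExc.Tow Cfsg.Agent.BpExc.TowChev Cfsg.Agent.BpExc.Fr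
  Cfsg.Agent.BpExc.LangFr Cfsg.Agent.LangThm Cfsg.Agent.BpExc Cfsg.Agent.H129.TorusChar Cfsg.Agent.H129.TorusMain
open Cfsg.Agent.H720.TorusReal Cfsg.Agent.H897.T5Cent Cfsg.Agent.H897.T5Root Cfsg.Agent.H897.T5Frame
open Cfsg.Agent.ChevalleyStructure.SL2Hom (up lo mem_closure_SL2)
open Cfsg.Agent.OddHalf.LongSL.Chev (phi phi_up phi_lo)
open Cfsg.Agent.ChevalleyStructure.CommTransport (CommAt)
open Cfsg.Agent.H926.WG2.Tors

section Comm

variable {D : ChevalleyDatum} {l : ℕ} {M : CoxeterMatrix (Fin l)} (hp : IsType D l M) {k : Type} [Field k]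

/-- root elements with empty commutator word commute -/
theorem comm_xc {r s : ℕ} (hr : r < D.nroots) (hs : s < D.nroots) (hc : CommAt k D r s)
    (h0 : D.commTerms r s = []) (t u : k) :
    xc hp (vec D l r) t * xc hp (vec D l s) u = xc hp (vec D l s) u * xc hp (vec D l r) t := by
  apply Subtype.ext
  rw [Subgroup.coe_mul, Subgroup.coe_mul, coe_xc hp hr, coe_xc hp hs]
  apply Units.ext
  rw [Units.val_mul, Units.val_mul, coe_xG, coe_xG]
  have h1 := hc t u
  rw [commWord, h0, List.map_nil, wordMat, List.map_nil, List.prod_nil, mul_one] at h1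
  exact h1.symm

end Comm

section G2

variable (hp : IsType chevG2 2 CoxeterMatrix.G₂) {k : Type} [Field k]
  [IsAlgClosed k] {W : Type} [Group W] [Finite W] (cs : CoxeterSystem CoxeterMatrix.G₂ W) (hk : LocFin k)
  (r : ℕ) [Fact r.Prime] [CharP k r]

theorem comm_pair {a b : ℕ} (ha : a ∈ [4, 7]) (hb : b ∈ [0, 11]) (t u : k) :
    xc hp (vec chevG2 2 a) t * xc hp (vec chevG2 2 b) u = xc hp (vec chevG2 2 b) u * xc hp (vec chevG2 2 a) t := by
  simp only [List.mem_cons, List.not_mem_nil, or_false] at ha hb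
  rcases ha with rfl | rfl <;> rcases hb with rfl | rfl
  all_goals exact comm_xc hp (by decide) (by decide) (CommG2.commAt_G2 k _ _ (by decide) (by decide) (by decide)
    (by decide +kernel)) (by decide +kernel) t u

/-- the long root orthogonal to `α₀` -/
def bb : Fin 2 → ℤ := ![3, 2]

theorem vec7 : vec chevG2 2 7 = sr 0 := by decide +kernel
theorem vec4 : vec chevG2 2 4 = -sr 0 := by decide +kernel
theorem vec11 : vec chevG2 2 11 = bb := by decide +kernel
theorem vec0 : vec chevG2 2 0 = -bb := by decide +kernel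

theorem bb_eq : bb = rep cs hp.isCartan (cs.simple 1 * cs.simple 0) (sr 1) := by
  rw [rep_mul_apply, r0, r1, sr1]
  decide

theorem isRoot_bb : IsRoot cs hp.isCartan bb := ⟨_, _, bb_eq hp cs⟩

include cs hk r in
theorem comm_range {z : ↥(chevG2.group k)} (hz : z ∈ RGD.Sup (XX chevG2 2 k) {a | a = bb ∨ a = -bb}) :
    ∀ y ∈ (phi hp k 0).range, z * y = y * z := by
  have C := coordsL hp cs hk r
  have hr := isRoot_sr cs hp.isCartan 0
  have hrb := isRoot_bb hp cs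
  have key : ∀ b, (b = sr 0 ∨ b = -sr 0) → ∀ y ∈ XX chevG2 2 k b, z * y = y * z := by
    intro b hb y hy
    have h1 : RGD.Sup (XX chevG2 2 k) {a | a = bb ∨ a = -bb} ≤ Subgroup.centralizer {y} := by
      refine RGD.Sup_le fun a ha => ?_
      intro u hu
      rw [Subgroup.mem_centralizer_singleton_iff]
      have hba : ∃ m ∈ [4, 7], vec chevG2 2 m = b := by
        rcases hb with rfl | rfl
        · exact ⟨7, by simp, vec7⟩
        · exact ⟨4, by simp, vec4⟩
      have haa : ∃ m ∈ [0, 11], vec chevG2 2 m = a := by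
        rcases ha with rfl | rfl
        · exact ⟨11, by simp, vec11⟩
        · exact ⟨0, by simp, vec0⟩
      have hbr : IsRoot cs hp.isCartan b := by
        rcases hb with rfl | rfl
        · exact hr
        · exact hr.neg
      have har : IsRoot cs hp.isCartan a := by
        rcases ha with rfl | rfl
        · exact hrb
        · exact hrb.neg
      obtain ⟨s, rfl⟩ := ((C.coord _ hbr).mem y).1 hy
      obtain ⟨t, rfl⟩ := ((C.coord _ har).mem u).1 hu
      obtain ⟨m, hm, rfl⟩ := hba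
      obtain ⟨m', hm', rfl⟩ := haa
      exact (comm_pair hp hm hm' s t).symm
    exact Subgroup.mem_centralizer_singleton_iff.1 (h1 hz)
  refine Cfsg.Agent.OddHalf.LongSL.commute_range _ (fun s => ?_) (fun s => ?_)
  · rw [phi_up']
    exact key _ (Or.inl rfl) _ (((C.coord _ hr).mem _).2 ⟨s, rfl⟩)
  · rw [phi_lo']
    exact key _ (Or.inr rfl) _ (((C.coord _ hr.neg).mem _).2 ⟨s, rfl⟩)

include hk r in
/-- a reflection in a root of `S` -/
theorem exists_rfl (hN : NSys CoxeterMatrix.G₂ (TT chevG2 k) (nc hp k))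
    {S : Set (Fin 2 → ℤ)} {a : Fin 2 → ℤ} (hr : IsRoot cs hp.isCartan a) (ha : a ∈ S) (hna : -a ∈ S) :
    ∃ w, ∃ m ∈ RGD.Sup (XX chevG2 2 k) S, Rp cs hN w m ∧
      ∀ x, rep cs hp.isCartan w x = x - cpr cs hp.isCartan x a • a := by
  obtain ⟨w, i, h1, m, hm, hm'⟩ := Cfsg.Agent.H897.Cen.exists_rfl_Sup (tow hp cs hk r (k := k)) (coL hp cs hk r)
    hr ha hna
  rw [XL_eq hp hk] at hm
  refine ⟨_, m, hm, rp_cast hp cs _ (TL_eq hp hk) hN hm', fun x => ?_⟩
  rw [rep_rfl'_eq, ← h1]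

theorem cpr0 (x : Fin 2 → ℤ) : cpr cs hp.isCartan x (sr 0) = 2 * x 0 - 3 * x 1 := by
  have h1 := cpr_rep_sr cs hp.isCartan x (1 : W) (0 : Fin 2)
  rw [map_one, Module.End.one_apply, inv_one, map_one, Module.End.one_apply] at h1
  rw [h1]
  obtain ⟨e1, e2, e3, e4⟩ := cartan_val
  simp [pairing, Fin.sum_univ_two, e1, e2]
  ring

theorem cprb (x : Fin 2 → ℤ) : cpr cs hp.isCartan x bb = x 1 := by
  have h1 := cpr_rep_sr cs hp.isCartan x (cs.simple 1 * cs.simple 0) (1 : Fin 2)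
  rw [← bb_eq hp cs, mul_inv_rev, cs.inv_simple, cs.inv_simple, rep_mul_apply, r1, r0] at h1
  rw [h1]
  obtain ⟨e1, e2, e3, e4⟩ := cartan_val
  simp [pairing, Fin.sum_univ_two, e3, e4]
  ring

variable {e : ℕ} (he : 0 < e) {σ : MulAut ↥(chevG2.group k)} (hσ : IsFrob r e σ)
  (Fσ : Fr cs hp.isCartan (TT chevG2 k) (XX chevG2 2 k) σ (AddEquiv.refl _))

include hk he hσ Fσ in
/-- **The frame.** -/
theorem exists_frame (hN : NSys CoxeterMatrix.G₂ (TT chevG2 k) (nc hp k)) :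
    ∃ za zb w1, za ∈ (phi hp k 0).range ∧ (∀ y ∈ (phi hp k 0).range, zb * y = y * zb) ∧
      Rp cs hN w1 ((za * zb)⁻¹ * σ (za * zb)) ∧ ∀ x, rep cs hp.isCartan w1 x = (-1 : ℤ) • x := by
  have hr := isRoot_sr cs hp.isCartan 0
  have hrb := isRoot_bb hp cs
  obtain ⟨wa, na, hna, hna', ha1⟩ := exists_rfl hp cs hk r hN (S := {a | a = sr 0 ∨ a = -sr 0}) hr
    (Or.inl rfl) (Or.inr rfl)
  obtain ⟨za, hza, hza'⟩ := lang_fr hp cs he hσ Fσ (S := {a | a = sr 0 ∨ a = -sr 0}) (by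
    rintro a (rfl | rfl)
    · exact hr
    · exact hr.neg) (by
    rintro a (rfl | rfl)
    · exact Or.inl rfl
    · exact Or.inr rfl) hna
  obtain ⟨wb, nb, hnb, hnb', hb1⟩ := exists_rfl hp cs hk r hN (S := {a | a = bb ∨ a = -bb}) hrb
    (Or.inl rfl) (Or.inr rfl)
  obtain ⟨zb, hzb, hzb'⟩ := lang_fr hp cs he hσ Fσ (S := {a | a = bb ∨ a = -bb}) (by
    rintro a (rfl | rfl)
    · exact hrb
    · exact hrb.neg) (by
    rintro a (rfl | rfl)
    · exact Or.inl rfl
    · exact Or.inr rfl) hnb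
  have hcomm := comm_range hp cs hk r hzb
  refine ⟨za, zb, wa * wb, Sup_le_range hp cs hk r 0 hza, hcomm, ?_, ?_⟩
  · have h1 : (za * zb)⁻¹ * σ (za * zb) = na * nb := by
      have h2 : na ∈ (phi hp k 0).range := Sup_le_range hp cs hk r 0 hna
      rw [map_mul, hzb']
      calc (za * zb)⁻¹ * (σ za * σ zb) = zb⁻¹ * (za⁻¹ * σ za) * σ zb := by group
        _ = zb⁻¹ * (na * zb) * (zb⁻¹ * σ zb) := by rw [← hza']; group
        _ = zb⁻¹ * (zb * na) * (zb⁻¹ * σ zb) := by rw [hcomm _ h2]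
        _ = na * (zb⁻¹ * σ zb) := by group
    rw [h1]
    exact hna'.mul hnb'
  · intro x
    rw [rep_mul_apply, hb1, ha1, cprb hp cs, cpr0 hp cs, sr0, bb]
    funext j
    fin_cases j
    · show x 0 - x 1 * 3 - (2 * (x 0 - x 1 * 3) - 3 * (x 1 - x 1 * 2)) * 1 = (-1 : ℤ) * x 0
      ring
    · show x 1 - x 1 * 2 - (2 * (x 0 - x 1 * 3) - 3 * (x 1 - x 1 * 2)) * 0 = (-1 : ℤ) * x 1
      ring

end G2

end Cfsg.Agent.H926.WG2.Frame
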