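import Cfsg.Agent.H897.T5Root

/-!
# Elements of order `p ∣ q² - 1` act on a root `SL₂(q)`, several root lengths (S3826)

`inner_root'` : `T5Root.inner_root` when the roots conjugate to the fundamental root `i₀` separate the elements of
order `p` of the torus.
-/

set_option autoImplicit false
set_option linter.unusedSectionVars false

namespace Cfsg.Agent.H926.WG2.Root

open CoxeterSystem Cfsg Cfsg.Lie Cfsg.Lie.ChevalleyDatum
open Cfsg.Agent.ChevalleyStructure Cfsg.Agent.ChevalleyStructure.Elts Cfsg.Agent.ChevalleyStructure.CoxeterGeom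
  Cfsg.Agent.ChevalleyStructure.CoxeterGeomTypes Cfsg.Agent.ChevalleyStructure.NPerm
open Cfsg.Agent.Tits.Roots Cfsg.Agent.Tits.Core Cfsg.Agent.Nodes Cfsg.Agent.Nodes.Reps Cfsg.Agent.Nodes.BNOf
  Cfsg.Agent.Nodes.RGDChev Cfsg.Agent.Nodes.Bruhat Cfsg.Agent.Nodes.SubComb Cfsg.Agent.Nodes.Coroot
open Cfsg.Agent.KFacts.RgdField Cfsg.Agent.KFacts.RgdChevCoord Cfsg.Agent.BpExc.TorCent Cfsg.Agent.BpExc.TorChev
open Cfsg.Agent.GpExc.Field Cfsg.Agent.BpExc.Tow Cfsg.Agent.BpExc.TowChev Cfsg.Agent.BpExc.Fr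
  Cfsg.Agent.BpExc.LangFr Cfsg.Agent.LangThm Cfsg.Agent.BpExc Cfsg.Agent.H129.TorusChar Cfsg.Agent.H129.TorusMain
open Cfsg.Agent.H720.TorusReal Cfsg.Agent.H897.T5Cent Cfsg.Agent.H897.T5Root
open Cfsg.Agent.ChevalleyStructure.SL2Hom (up lo mem_closure_SL2)
open Cfsg.Agent.OddHalf.LongSL.Chev (phi phi_up phi_lo)

section Chev

variable {D : ChevalleyDatum} {l : ℕ} {M : CoxeterMatrix (Fin l)} (hp : IsType D l M) {k : Type} [Field k]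
  [IsAlgClosed k] {W : Type} [Group W] [Finite W] (cs : CoxeterSystem M W) (hk : LocFin k) (r : ℕ) [Fact r.Prime]
  [CharP k r] (i0 : Fin l)

variable {p : ℕ} (hC : Con hp cs hk r p) (hpp : p.Prime) (hpr : p ≠ r)
  {e : ℕ} (he : 0 < e) {σ : MulAut ↥(D.group k)} {g : (Fin l → ℤ) ≃+ (Fin l → ℤ)} (hσ : IsFrob r e σ)
  (F : Fr cs hp.isCartan (TT D k) (XX D l k) σ g) {d : ℕ} {B : Fin l → Fin l → ℤ} (hB : InvC D l d B) (hd : d ≠ 0)
  (hZ : Subgroup.center ↥(D.group k) = ⊥) (hA : Cfsg.Agent.BpExc.TorAll.HAlg r k)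

include hC hpp hpr he hσ F hB hd hZ hA in
/-- **Elements of order `p ∣ q - ε`.** -/
theorem inner_root' (hN : NSys M (TT D k) (nc hp k)) {za zb : ↥(D.group k)} (hza : za ∈ (phi hp k i0).range)
    (hzb : ∀ y ∈ (phi hp k i0).range, zb * y = y * zb) {w1 : W}
    (hn1 : Rp cs hN w1 ((za * zb)⁻¹ * σ (za * zb))) {ε : ℤ}
    (hθ : ∀ x, rep cs hp.isCartan w1 (g x) = ε • x) (hpe : (p : ℤ) ∣ (r : ℤ) ^ e - ε)
    (hmv : ∀ t ∈ TT D k, t ^ p = 1 → t ≠ 1 → ∃ a, IsRoot cs hp.isCartan a ∧ cX hp t a ≠ 1 ∧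
      ∃ w, rep cs hp.isCartan w a = sr i0)
    {x : ↥(D.group k)} (hσx : σ x = x) (hxp : x ^ p = 1) (hx1 : x ≠ 1) :
    ∃ y, σ y = y ∧ (∀ u ∈ (phi hp k i0).range, (y * x * y⁻¹) * u * (y * x * y⁻¹)⁻¹ ∈ (phi hp k i0).range) ∧
      (y * x * y⁻¹) * phi hp k i0 (up 1) ≠ phi hp k i0 (up 1) * (y * x * y⁻¹) := by
  obtain ⟨z, hz⟩ := TorAll.exists_toral hp r hA hpp hpr hxp
  obtain ⟨t, htz⟩ : ∃ t, t = z⁻¹ * x * z := ⟨_, rfl⟩
  rw [← htz] at hz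
  have htp : t ^ p = 1 := by
    have h1 : t = z⁻¹ * x * z⁻¹⁻¹ := by rw [htz, inv_inv]
    rw [h1, conj_pow, hxp, mul_one, mul_inv_cancel]
  have ht1 : t ≠ 1 := by
    intro h0
    apply hx1
    have h1 : x = z * t * z⁻¹ := by rw [htz]; group
    rw [h1, h0]; group
  obtain ⟨z1, hz1⟩ : ∃ z1, z1 = za * zb := ⟨_, rfl⟩
  rw [← hz1] at hn1
  obtain ⟨n1, hn⟩ : ∃ n1, n1 = z1⁻¹ * σ z1 := ⟨_, rfl⟩
  rw [← hn] at hn1
  -- `t` is fixed
  have hnt : n1 * σ t * n1⁻¹ = t := by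
    rw [tau_iff hp cs hk hσ F hn1 hz]
    intro a
    rw [theta_apply, hθ, (isMC_cX hp hz).zsmul]
    have h1 : cX hp t a ^ p = 1 := by rw [← cX_pow hp hz, htp, cX_one]
    have h0 := (isMC_cX hp hz).ne_zero a
    obtain ⟨c, hc⟩ := hpe
    have h2 : ((r ^ e : ℕ) : ℤ) = ε + p * c := by push_cast; linarith
    rw [← zpow_natCast, h2, zpow_add₀ h0, zpow_mul, zpow_natCast (cX hp t a) p, h1, one_zpow, mul_one]
  obtain ⟨z', hz'1, hz'2⟩ := star hp cs hk r hC he hσ F hB hd hn1 hσx htz.symm hz htp hnt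
  have hy0 : σ (z1 * z'⁻¹) = z1 * z'⁻¹ := conj_fix hz'1 hn.symm
  -- the root
  obtain ⟨a, ha, hta, w, hw⟩ := hmv t hz htp ht1
  have F1 : Fr cs hp.isCartan (TT D k) (XX D l k) (MulAut.conj n1 * σ) (g.trans (repAut cs hp.isCartan w1)) :=
    (fr_conj hp cs hk r hn1).mul F
  obtain ⟨m, hm0, hm⟩ := Cfsg.Agent.H696.GmnToral.exists_fixed_rp hp cs hk (r := r) hZ he (hσ.conj_mul n1) F1
    (w := w) (fun b _ => by
      show rep cs hp.isCartan w (rep cs hp.isCartan w1 (g b)) = rep cs hp.isCartan w1 (g (rep cs hp.isCartan w b))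
      rw [hθ, hθ, map_smul])
  have hmN : Rp cs hN w m := rp_cast hp cs _ (TL_eq hp hk) hN hm0
  have hm' : n1 * σ m * n1⁻¹ = m := hm
  have ht' : m * t * m⁻¹ ∈ TT D k := (Subgroup.mem_normalizer_iff.1 hmN.mem_normalizer t).1 hz
  have hta' : ch hp (sr i0) (m * t * m⁻¹) ≠ 1 := by
    rw [← cX_root hp cs ht' (isRoot_sr cs hp.isCartan i0), ← hw, cX_rp hp cs hk r hmN hz]
    exact hta
  have hσz1 : σ z1 = z1 * n1 := by rw [hn]; group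
  have hy1 : σ (z1 * m * z1⁻¹) = z1 * m * z1⁻¹ := by
    rw [map_mul, map_mul, map_inv, hσz1]
    calc z1 * n1 * σ m * (z1 * n1)⁻¹ = z1 * (n1 * σ m * n1⁻¹) * z1⁻¹ := by group
      _ = z1 * m * z1⁻¹ := by rw [hm']
  have hx : (z1 * m * z1⁻¹ * (z1 * z'⁻¹)) * x * (z1 * m * z1⁻¹ * (z1 * z'⁻¹))⁻¹ = z1 * (m * t * m⁻¹) * z1⁻¹ := by
    rw [← hz'2]; group
  obtain ⟨t', ht'e⟩ : ∃ t', t' = m * t * m⁻¹ := ⟨_, rfl⟩
  rw [← ht'e] at ht' hta' hx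
  refine ⟨z1 * m * z1⁻¹ * (z1 * z'⁻¹), by rw [map_mul, hy0, hy1], ?_, ?_⟩
  · intro u hu
    rw [hx]
    have h1 : za⁻¹ * u * za ∈ (phi hp k i0).range := mul_mem (mul_mem (inv_mem hza) hu) hza
    have h2 := conj_mem hp cs hk r i0 ht' h1
    have h3 := mul_mem (mul_mem hza h2) (inv_mem hza)
    have e1 : zb⁻¹ * (za⁻¹ * u * za) * zb = za⁻¹ * u * za := by
      rw [mul_assoc, ← hzb _ h1]; group
    have e2 : zb * (t' * (za⁻¹ * u * za) * t'⁻¹) * zb⁻¹ = t' * (za⁻¹ * u * za) * t'⁻¹ := by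
      rw [hzb _ h2]; group
    have e3 : z1 * t' * z1⁻¹ * u * (z1 * t' * z1⁻¹)⁻¹ = za * (t' * (za⁻¹ * u * za) * t'⁻¹) * za⁻¹ := by
      calc z1 * t' * z1⁻¹ * u * (z1 * t' * z1⁻¹)⁻¹
          = za * (zb * (t' * (zb⁻¹ * (za⁻¹ * u * za) * zb) * t'⁻¹) * zb⁻¹) * za⁻¹ := by rw [hz1]; group
        _ = _ := by rw [e1, e2]
    rw [e3]
    exact h3
  · rw [hx]
    intro h
    have hu : phi hp k i0 (up 1) ∈ (phi hp k i0).range := ⟨_, rfl⟩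
    have h1 : za⁻¹ * phi hp k i0 (up 1) * za ∈ (phi hp k i0).range := mul_mem (mul_mem (inv_mem hza) hu) hza
    apply ne_comm hp cs hk r i0 ht' hta' hza
    have e1 : zb⁻¹ * (za⁻¹ * phi hp k i0 (up 1) * za) * zb = za⁻¹ * phi hp k i0 (up 1) * za := by
      rw [mul_assoc, ← hzb _ h1]; group
    have e2 : z1⁻¹ * phi hp k i0 (up 1) * z1 = za⁻¹ * phi hp k i0 (up 1) * za := by
      rw [← e1, hz1]; group
    rw [← e2]
    calc t' * (z1⁻¹ * phi hp k i0 (up 1) * z1) = z1⁻¹ * (z1 * t' * z1⁻¹ * phi hp k i0 (up 1)) * z1 := by group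
      _ = z1⁻¹ * (phi hp k i0 (up 1) * (z1 * t' * z1⁻¹)) * z1 := by rw [h]
      _ = z1⁻¹ * phi hp k i0 (up 1) * z1 * t' := by group

end Chev

end Cfsg.Agent.H926.WG2.Root
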