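import Cfsg.Agent.H897.T5Untw
import Cfsg.Agent.H926.WG2.Root
import Cfsg.Agent.H926.WG2.Frame

/-!
# `Red 3` for a short root `SL₂(q)` of `G₂(q)`, `3 ∤ q`, `q ≥ 4` (S3826)

`red_gen'` : `T5Untw.red_gen` for odd primes `p`; `red_G2`.
-/


set_option autoImplicit false
set_option linter.unusedSectionVars false

namespace Cfsg.Agent.H926.WG2.Red

open CoxeterSystem Cfsg Cfsg.Lie Cfsg.Lie.ChevalleyDatum
open Cfsg.Agent.ChevalleyStructure Cfsg.Agent.ChevalleyStructure.Elts Cfsg.Agent.ChevalleyStructure.CoxeterGeom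
  Cfsg.Agent.ChevalleyStructure.CoxeterGeomTypes Cfsg.Agent.ChevalleyStructure.NPerm
open Cfsg.Agent.Tits.Roots Cfsg.Agent.Tits.Core Cfsg.Agent.Nodes Cfsg.Agent.Nodes.Reps Cfsg.Agent.Nodes.BNOf
  Cfsg.Agent.Nodes.RGDChev Cfsg.Agent.Nodes.Bruhat Cfsg.Agent.Nodes.SubComb Cfsg.Agent.Nodes.Coroot
open Cfsg.Agent.KFacts.RgdField Cfsg.Agent.KFacts.RgdChevCoord Cfsg.Agent.BpExc.TorCent Cfsg.Agent.BpExc.TorChev
open Cfsg.Agent.GpExc.Field Cfsg.Agent.BpExc.Tow Cfsg.Agent.BpExc.TowChev Cfsg.Agent.BpExc.Fr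
  Cfsg.Agent.BpExc.LangFr Cfsg.Agent.LangThm Cfsg.Agent.BpExc Cfsg.Agent.H129.TorusChar Cfsg.Agent.H129.TorusMain
open Cfsg.Agent.BpExc.FamUntw Cfsg.Agent.BpExc.FamInst Cfsg.Agent.BpExc.FamField Cfsg.Agent.BpExc.FamExt
  Cfsg.Agent.CpAut.RgdUntw
open Cfsg.Agent.H897.T5Cent Cfsg.Agent.H897.T5Root Cfsg.Agent.H897.T5Box Cfsg.Agent.H897.T5Sub
  Cfsg.Agent.H897.T5Fam Cfsg.Agent.H897.T5Frame Cfsg.Agent.H897.T5Conn Cfsg.Agent.H897.T5Untw
open Cfsg.Agent.ChevalleyStructure.SL2Hom (up lo mem_closure_SL2)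
open Cfsg.Agent.OddHalf.LongSL.Chev (phi_up phi_lo)
open Cfsg.Agent.H378.TorFin (frobHom frobHom_apply exists_closure phi_emb')
open Cfsg.Agent.H533.T5 Cfsg.Agent.H957.T5M
open Matrix (SpecialLinearGroup)

section Main

variable {D : ChevalleyDatum} {l : ℕ} {M : CoxeterMatrix (Fin l)} (hp : IsType D l M)

include hp in
/-- **The reduction**, given the torality statement. -/
theorem red_gen' {F : Type} [Field F] [Fintype F] {d : ℕ} {B : Fin l → Fin l → ℤ} (hB : FamExt.InvC D l d B)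
    (hd : d ≠ 0) (hM : SymTwo M)
    (hk1 : ∀ (k : Type) [Field k] [IsAlgClosed k], IsSimpleGroup ↥(D.group k) ∧ ¬ IsMulCommutative ↥(D.group k))
    (hF1 : IsSimpleGroup ↥(D.group F) ∧ ¬ IsMulCommutative ↥(D.group F))
    {p : ℕ} (hpp : p.Prime) (hp2 : p ≠ 2) (hpF : ¬ p ∣ Fintype.card F) (h2d : 4 ≤ Fintype.card F) {i0 : Fin l}
    (hinner : ∀ (k : Type) [Field k] [IsAlgClosed k] (_ : LocFin k) (r : ℕ) [Fact r.Prime] [CharP k r] (n : ℕ),
      BpExc.TorAll.HAlg r k → 0 < n → Fintype.card F = r ^ n → p ≠ r → Subgroup.center ↥(D.group k) = ⊥ →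
      Inner hp k i0 p (phi D k r n)) :
    Red p (ph hp F i0).range := by
  have hi1 := hF1.1
  obtain ⟨k, _, _, f, r, _, _, n, hk, hka, hn0, hn⟩ := exists_closure F
  have hrF : CharP F r := f.charP f.injective r
  have hperf : PerfectRing k r := inferInstance
  have hW : Finite M.Group := finite_W hp M.toCoxeterSystem
  have hcent : ∀ {G : Type} [Group G], IsSimpleGroup G → ¬ IsMulCommutative G → Subgroup.center G = ⊥ := by
    intro G _ h1 h2
    refine KFacts.RgdLieCharP.center_eq_bot ?_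
    by_contra hcon
    push Not at hcon
    exact h2 ⟨⟨hcon⟩⟩
  have hZ := hcent (hk1 k).1 (hk1 k).2
  have hZF := hcent hF1.1 hF1.2
  have R := rgd (K := F) hp M.toCoxeterSystem r
  have hG1 : RGD.Sup (XX D l F) {x | IsRoot M.toCoxeterSystem hp.isCartan x} = ⊤ := G1_eq_top hp M.toCoxeterSystem
  have hconn := KFacts.RgdLieCharP.conn_of_simple R hG1 hZF
  have hl : Nonempty (Fin l) := ⟨i0⟩
  have hn' : Fintype.card F = r ^ n := by rw [← Nat.card_eq_fintype_card, hn]
  have hpr : p ≠ r := by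
    rintro rfl
    exact hpF (by rw [hn']; exact dvd_pow_self _ hn0.ne')
  have hroots : ∀ c : F, c ≠ 0 → ∃ b : k, b ^ d = f c := fun c _ =>
    IsAlgClosed.exists_pow_nat_eq (f c) (Nat.pos_of_ne_zero hd)
  have hact : ∀ m, Act hp r i0 (phi D k r m) m := by
    intro m
    have h1 : ∀ (a : Fin l → ℤ), IsRoot M.toCoxeterSystem hp.isCartan a → ∀ t : k,
        phi D k r m (xc hp a t) = xc hp a (t ^ r ^ m) := by
      intro a ha t
      obtain ⟨s, hs, rfl⟩ := (isRoot_iff hp M.toCoxeterSystem a).1 ha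
      rw [phi, fld_eq_emb hp, emb_xc hp _ hs]
      congr 1
      exact frb_apply k r m t
    have hr := isRoot_sr M.toCoxeterSystem hp.isCartan i0
    exact ⟨fun a => by rw [phi_up', phi_up', h1 _ hr], fun a => by rw [phi_lo', phi_lo', h1 _ hr.neg]⟩
  have hκ : ∀ C : SpecialLinearGroup (Fin 2) F, emb hp.inList f (ph hp F i0 C) =
      ph hp k i0 (SpecialLinearGroup.map f C) := by
    intro C
    have h1 : (emb hp.inList f).comp (ph hp F i0) = (ph hp k i0).comp (SpecialLinearGroup.map f) := by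
      have hs := simple_lt hp.inList (lt_rank hp i0)
      have e0 : ∀ (K : Type) [Field K] (t : K), ph hp K i0 (up t) = xc hp (vec D l (D.simple i0)) t := by
        intro K _ t
        apply Subtype.ext
        rw [ph, phi_up]
        exact (coe_xc (K := K) hp hs t).symm
      have e1 : ∀ (K : Type) [Field K] (t : K), ph hp K i0 (lo t) = xc hp (vec D l (D.neg (D.simple i0))) t := by
        intro K _ t
        apply Subtype.ext
        rw [ph, phi_lo]
        exact (coe_xc (K := K) hp (neg_lt hp.inList hs) t).symm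
      refine hom_ext' (fun a => ?_) (fun a => ?_)
      · show emb hp.inList f (ph hp F i0 (up a)) = ph hp k i0 (SpecialLinearGroup.map f (up a))
        rw [map_up, e0, e0, emb_xc hp f hs]
      · show emb hp.inList f (ph hp F i0 (lo a)) = ph hp k i0 (SpecialLinearGroup.map f (lo a))
        rw [map_lo, e1, e1, emb_xc hp f (neg_lt hp.inList hs)]
    exact DFunLike.congr_fun h1 C
  refine red_root M.toCoxeterSystem hk (σ := phi D k r n) (ι := emb hp.inList f) (j := f) (e := n)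
    (emb_injective hp.inList f) (fun s => phi_emb hp r f hn s) h2d (by rw [hn]) ?_ hκ (hact n) ?_ hZ hpp
    (hinner k hk r n hka hn0 hn' hpr hZ) ?_
  · -- roots of `x ^ q = x`
    intro x hx
    exact (Cfsg.Agent.H129.TorusUntw.frob_fix_iff f hn' x).1 (by rw [iterateFrobenius_def]; exact hx)
  · -- split
    intro y hy
    obtain ⟨a, ⟨g, rfl⟩, t, ht, -, h1⟩ := Cfsg.Agent.H378.TorFin.exists_split hp f r hn (y := y⁻¹) (by
      rw [map_inv, hy])
    refine ⟨g⁻¹, t⁻¹, inv_mem ht, ?_⟩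
    rw [map_inv, ← mul_inv_rev, ← h1, inv_inv]
  · -- automorphisms
    intro c hc
    have hcp : c ^ p = 1 := by rw [← hc, pow_orderOf_eq_one]
    rcases BpExc.FamUntw.cases hp hk r f hB hd hroots hl hconn hZ hpp
      (hM.eq_one hpp hp2) hn hcp with h | ⟨i, m, hi, hm0, hmn, y, hy, h⟩
    · exact Or.inl h
    · exact Or.inr ⟨i, m, phi D k r m, y, hi, hm0, hmn, phi_isFrob r m,
        ⟨_, phi_fr hp M.toCoxeterSystem r hk m⟩, by rw [phi_pow, hmn], hact m, hy, h⟩

end Main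

section G2

open Cfsg.Agent.H926.WG2.Tors Cfsg.Agent.H926.WG2.Root

variable (hp : IsType chevG2 2 CoxeterMatrix.G₂)

/-- the short roots separate the elements of the torus -/
theorem hmv {k : Type} [Field k] [IsAlgClosed k] {W : Type} [Group W] [Finite W]
    (cs : CoxeterSystem CoxeterMatrix.G₂ W) {t : ↥(chevG2.group k)} (ht : t ∈ TT chevG2 k) (ht1 : t ≠ 1) :
    ∃ a, IsRoot cs hp.isCartan a ∧ cX hp t a ≠ 1 ∧ ∃ w, rep cs hp.isCartan w a = sr 0 := by
  by_contra hcon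
  push Not at hcon
  have h0 : cX hp t (sr 0) = 1 := by
    by_contra h1
    exact hcon _ (isRoot_sr cs hp.isCartan 0) h1 1 (by rw [map_one, Module.End.one_apply])
  have e1 : rep cs hp.isCartan (cs.simple 1) (sr 0) = sr 0 + sr 1 := by
    rw [r1, sr0, sr1]; decide
  have h2 : cX hp t (sr 0 + sr 1) = 1 := by
    by_contra h1
    rw [← e1] at h1
    exact hcon _ ((isRoot_sr cs hp.isCartan 0).act _) h1 (cs.simple 1)⁻¹ (by rw [rep_inv_apply])
  have h3 : cX hp t (sr 1) = 1 := by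
    rw [(isMC_cX hp ht).add, h0, one_mul] at h2
    exact h2
  apply ht1
  refine cX_inj hp ht (one_mem _) fun i => ?_
  rw [cX_one]
  fin_cases i
  · exact h0
  · exact h3

/-- **`Red 3` for a short root `SL₂(q)`.** -/
theorem red_G2 {F : Type} [Field F] [Fintype F] (h4 : 4 ≤ Fintype.card F) (h3 : ¬ 3 ∣ Fintype.card F) :
    Red 3 (ph hp F 0).range := by
  have hq1 : 1 < Fintype.card F := Fintype.one_lt_card
  have hB := BpExc.FamInst.inv_G2
  have hB' : H129.TorusChar.InvC chevG2 2 1 _ := hB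
  refine red_gen' hp hB one_ne_zero symTwo_G2 (fun k _ _ => S1055.result (exists_ne_algClosed k))
    (S1055.result (BpExc.RowsUntw.exists_ne (by omega))) Nat.prime_three (by norm_num) h3 h4 ?_
  intro k _ _ hk r _ _ n hka hn0 hn' hpr hZ x hσx hxp hx1
  have hW : Finite CoxeterMatrix.G₂.Group := finite_W hp CoxeterMatrix.G₂.toCoxeterSystem
  have hC : Con hp CoxeterMatrix.G₂.toCoxeterSystem hk r 3 := con_of_tors hp _ hk r Nat.prime_three (by
    rw [card_W CoxeterMatrix.G₂.toCoxeterSystem]; norm_num) (tors_G2 _)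
  have hN : NSys CoxeterMatrix.G₂ (TT chevG2 k) (nc hp k) := by
    have := (tow hp CoxeterMatrix.G₂.toCoxeterSystem hk r (k := k)).nsys
    rwa [TL_eq hp hk] at this
  have hσf := phi_isFrob (D := chevG2) (k := k) r n
  have hσF := phi_fr hp CoxeterMatrix.G₂.toCoxeterSystem r hk n
  have hmv' : ∀ t ∈ TT chevG2 k, t ^ 3 = 1 → t ≠ 1 → ∃ a, IsRoot CoxeterMatrix.G₂.toCoxeterSystem hp.isCartan a ∧
      cX hp t a ≠ 1 ∧ ∃ w, rep CoxeterMatrix.G₂.toCoxeterSystem hp.isCartan w a = sr 0 :=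
    fun t ht _ ht1 => hmv hp _ ht ht1
  have hq : 3 ∣ Fintype.card F - 1 ∨ 3 ∣ Fintype.card F + 1 := by omega
  rcases hq with hq | hq
  · refine inner_root' hp CoxeterMatrix.G₂.toCoxeterSystem hk r 0 hC Nat.prime_three hpr hn0 hσf hσF hB' one_ne_zero
      hZ hka hN (za := 1) (zb := 1) (one_mem _) (fun y _ => by rw [one_mul, mul_one]) (w1 := 1) (ε := 1) ?_
      (fun x => by rw [map_one]; show x = (1 : ℤ) • x; rw [one_smul]) (int_dvd hn' hq1 hq) hmv' hσx hxp hx1
    rw [mul_one, inv_one, one_mul, map_one]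
    exact rp_one
  · obtain ⟨za, zb, w1, h1, h2, h5, h6⟩ := Cfsg.Agent.H926.WG2.Frame.exists_frame hp CoxeterMatrix.G₂.toCoxeterSystem
      hk r hn0 hσf hσF hN
    exact inner_root' hp CoxeterMatrix.G₂.toCoxeterSystem hk r 0 hC Nat.prime_three hpr hn0 hσf hσF hB' one_ne_zero
      hZ hka hN h1 h2 h5 h6 (int_dvd' hn' hq) hmv' hσx hxp hx1

end G2

end Cfsg.Agent.H926.WG2.Red
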